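import Groth.Agent.UnramPoint.Basic

/-!
Unramifiedness through the local ring of the fibre at a point.
-/

universe u

open CategoryTheory CategoryTheory.Limits AlgebraicGeometry IsLocalRing

set_option linter.style.haveILetI false

namespace Groth.Agent.UnramFibre

/-- The quotient by the extended maximal ideal is a finite separable field extension iff the
extension is the maximal ideal and the residue extension is finite separable. -/
theorem quot_iff {A B : Type u} [CommRing A] [CommRing B] [IsLocalRing A] [IsLocalRing B]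
    (u : A →+* B) [IsLocalHom u] :
    (letI := (Ideal.quotientMap ((maximalIdeal A).map u) u Ideal.le_comap_map).toAlgebra
     IsField (B ⧸ (maximalIdeal A).map u) ∧
       Module.Finite (A ⧸ maximalIdeal A) (B ⧸ (maximalIdeal A).map u) ∧
       Algebra.IsSeparable (A ⧸ maximalIdeal A) (B ⧸ (maximalIdeal A).map u)) ↔
    ((maximalIdeal A).map u = maximalIdeal B ∧
      letI := (ResidueField.map u).toAlgebra
      Module.Finite (ResidueField A) (ResidueField B) ∧
        Algebra.IsSeparable (ResidueField A) (ResidueField B)) := by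
  letI a1 := (Ideal.quotientMap ((maximalIdeal A).map u) u Ideal.le_comap_map).toAlgebra
  letI a2 := (ResidueField.map u).toAlgebra
  have key : ∀ h : (maximalIdeal A).map u = maximalIdeal B,
      (Module.Finite (A ⧸ maximalIdeal A) (B ⧸ (maximalIdeal A).map u) ↔
        Module.Finite (ResidueField A) (ResidueField B)) ∧
      (Algebra.IsSeparable (A ⧸ maximalIdeal A) (B ⧸ (maximalIdeal A).map u) ↔
        Algebra.IsSeparable (ResidueField A) (ResidueField B)) := by
    intro h
    let e₁ : (A ⧸ maximalIdeal A) ≃+* ResidueField A := RingEquiv.refl _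
    let e₂ : (B ⧸ (maximalIdeal A).map u) ≃+* ResidueField B := Ideal.quotEquivOfEq h
    have he : (algebraMap (ResidueField A) (ResidueField B)).comp e₁.toRingHom =
        e₂.toRingHom.comp (algebraMap (A ⧸ maximalIdeal A) (B ⧸ (maximalIdeal A).map u)) :=
      Ideal.Quotient.ringHom_ext (RingHom.ext fun a => rfl)
    have he' : (algebraMap (A ⧸ maximalIdeal A) (B ⧸ (maximalIdeal A).map u)).comp e₁.symm.toRingHom =
        e₂.symm.toRingHom.comp (algebraMap (ResidueField A) (ResidueField B)) :=
      Ideal.Quotient.ringHom_ext (RingHom.ext fun a => rfl)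
    refine ⟨⟨fun _ => Module.Finite.of_equiv_equiv e₁ e₂ he, fun _ => Module.Finite.of_equiv_equiv e₁.symm e₂.symm he'⟩,
      ?_⟩
    letI : Field (A ⧸ maximalIdeal A) := Ideal.Quotient.field _
    exact Algebra.IsSeparable.iff_of_equiv_equiv e₁ e₂ he
  constructor
  · rintro ⟨hF, hfin, hsep⟩
    have h := IsLocalRing.eq_maximalIdeal (Ideal.Quotient.maximal_of_isField _ hF)
    exact ⟨h, (key h).1.1 hfin, (key h).2.1 hsep⟩
  · rintro ⟨h, hfin, hsep⟩
    refine ⟨?_, (key h).1.2 hfin, (key h).2.2 hsep⟩
    rw [← Ideal.Quotient.maximal_ideal_iff_isField_quotient, h]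
    infer_instance

/-- The quotient map is bijective iff the extension is the maximal ideal and the residue fields agree. -/
theorem quot_bijective_iff {A B : Type u} [CommRing A] [CommRing B] [IsLocalRing A] [IsLocalRing B]
    (u : A →+* B) [IsLocalHom u] :
    Function.Bijective (Ideal.quotientMap ((maximalIdeal A).map u) u Ideal.le_comap_map) ↔
      ((maximalIdeal A).map u = maximalIdeal B ∧ Function.Surjective (ResidueField.map u)) := by
  constructor
  · intro hb
    have hF : IsField (B ⧸ (maximalIdeal A).map u) :=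
      MulEquiv.isField (Ideal.Quotient.maximal_ideal_iff_isField_quotient _ |>.1 inferInstance)
        (RingEquiv.ofBijective _ hb).symm.toMulEquiv
    refine ⟨IsLocalRing.eq_maximalIdeal (Ideal.Quotient.maximal_of_isField _ hF), fun z => ?_⟩
    obtain ⟨b, rfl⟩ := IsLocalRing.residue_surjective z
    obtain ⟨a, ha⟩ := hb.2 (Ideal.Quotient.mk _ b)
    obtain ⟨a, rfl⟩ := Ideal.Quotient.mk_surjective a
    refine ⟨residue A a, ?_⟩
    rw [ResidueField.map_residue]
    change Ideal.Quotient.mk (maximalIdeal B) (u a) = Ideal.Quotient.mk (maximalIdeal B) b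
    rw [Ideal.quotientMap_mk, Ideal.Quotient.eq] at ha
    exact Ideal.Quotient.eq.2 ((Ideal.map_le_iff_le_comap.2 (maximalIdeal_comap u).ge) ha)
  · rintro ⟨h, hs⟩
    refine ⟨RingHom.injective_iff_ker_eq_bot _ |>.2 ?_, fun z => ?_⟩
    · refine le_bot_iff.1 fun a ha => ?_
      obtain ⟨a, rfl⟩ := Ideal.Quotient.mk_surjective a
      rw [RingHom.mem_ker, Ideal.quotientMap_mk, Ideal.Quotient.eq_zero_iff_mem, h] at ha
      rw [Ideal.mem_bot, Ideal.Quotient.eq_zero_iff_mem, ← maximalIdeal_comap u]
      exact ha
    · obtain ⟨b, rfl⟩ := Ideal.Quotient.mk_surjective z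
      obtain ⟨a, ha⟩ := hs (residue B b)
      obtain ⟨a, rfl⟩ := IsLocalRing.residue_surjective a
      refine ⟨Ideal.Quotient.mk _ a, ?_⟩
      rw [Ideal.quotientMap_mk, Ideal.Quotient.eq, h]
      exact Ideal.Quotient.eq.1 ha

theorem formallyUnramified_iff_forall_stalkMap {X Y : Scheme.{u}} (f : X ⟶ Y) [LocallyOfFiniteType f] :
    FormallyUnramified f ↔ ∀ x, (f.stalkMap x).hom.FormallyUnramified := by
  refine ⟨fun _ x => FormallyUnramified.stalkMap f x, fun h => ?_⟩
  choose U hxU hU using fun x => UnramPoint.exists_nhd_of_stalkMap f x (h x)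
  exact IsZariskiLocalAtSource.of_iSup_eq_top (P := @FormallyUnramified) U
    (eq_top_iff.2 fun x _ => TopologicalSpace.Opens.mem_iSup.2 ⟨x, hxU x⟩) hU

end Groth.Agent.UnramFibre
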